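import Mathlib

/-!
# `GL_n` modulo commutators: diagonal matrices, unipotent blocks, LDU (helper18)
-/

open Matrix
open scoped commutatorElement

namespace Groth.Agent.Lib.Helper18.SLComm

section defs

variable (n : Type*) [Fintype n] [DecidableEq n] (R : Type*) [CommRing R]

/-- Diagonal matrices as a homomorphism `(Rˣ)^n → GL_n(R)`. -/
noncomputable def diagGL : (n → Rˣ) →* GL n R :=
  (Units.map (Matrix.diagonalRingHom n R).toMonoidHom).comp
    (MulEquiv.piUnits (M := fun _ : n => R)).symm.toMonoidHom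

variable {n R}

@[simp] lemma diagGL_val (δ : n → Rˣ) :
    ((diagGL n R δ : GL n R) : Matrix n n R) = diagonal (fun i => (δ i : R)) := by
  simp [diagGL]

variable (n R)

/-- The subgroup of `GL_n(R)` of matrices which are diagonal modulo commutators. -/
noncomputable def Dsub : Subgroup (GL n R) :=
  Subgroup.comap (Abelianization.of (G := GL n R))
    (MonoidHom.range ((Abelianization.of (G := GL n R)).comp (diagGL n R)))

variable {n R}

lemma mem_Dsub_iff {g : GL n R} :
    g ∈ Dsub n R ↔ ∃ δ : n → Rˣ, Abelianization.of (diagGL n R δ) = Abelianization.of g := by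
  simp [Dsub, Subgroup.mem_comap, MonoidHom.mem_range]

lemma commutator_le_Dsub : commutator (GL n R) ≤ Dsub n R := by
  intro g hg
  rw [mem_Dsub_iff]
  refine ⟨1, ?_⟩
  rw [map_one, map_one]
  have : g ∈ (Abelianization.of (G := GL n R)).ker := by
    rw [Abelianization.ker_of]; exact hg
  exact (MonoidHom.mem_ker.mp this).symm

lemma diagGL_mem_Dsub (δ : n → Rˣ) : diagGL n R δ ∈ Dsub n R :=
  mem_Dsub_iff.mpr ⟨δ, rfl⟩

lemma commutatorElement_mem (g h : GL n R) : ⁅g, h⁆ ∈ commutator (GL n R) := by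
  rw [commutator_def]
  exact Subgroup.commutator_mem_commutator (Subgroup.mem_top _) (Subgroup.mem_top _)

variable {S : Type*} [CommRing S]

lemma map_commutator_le (φ : R →+* S) {g : GL n R} (hg : g ∈ commutator (GL n R)) :
    Matrix.GeneralLinearGroup.map φ g ∈ commutator (GL n S) := by
  have h1 : (commutator (GL n R)).map (Matrix.GeneralLinearGroup.map φ) ≤ commutator (GL n S) := by
    rw [commutator_def, Subgroup.map_commutator, commutator_def]
    exact Subgroup.commutator_mono le_top le_top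
  exact h1 (Subgroup.mem_map_of_mem _ hg)

lemma map_diagGL (φ : R →+* S) (δ : n → Rˣ) :
    Matrix.GeneralLinearGroup.map φ (diagGL n R δ) = diagGL n S (fun i => Units.map φ.toMonoidHom (δ i)) := by
  apply Units.ext
  ext i j
  simp only [Matrix.GeneralLinearGroup.map_apply, diagGL_val]
  by_cases h : i = j
  · subst h; simp
  · simp [h]

lemma map_mem_Dsub (φ : R →+* S) {g : GL n R} (hg : g ∈ Dsub n R) :
    Matrix.GeneralLinearGroup.map φ g ∈ Dsub n S := by
  rw [mem_Dsub_iff] at hg ⊢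
  obtain ⟨δ, hδ⟩ := hg
  refine ⟨fun i => Units.map φ.toMonoidHom (δ i), ?_⟩
  rw [← map_diagGL]
  have := congrArg (Abelianization.map (Matrix.GeneralLinearGroup.map (n := n) φ)) hδ
  simpa using this

end defs

section blocks

variable {m l : Type*} [Fintype m] [DecidableEq m] [Fintype l] [DecidableEq l]
variable {R : Type*} [CommRing R]

/-- Upper unipotent block matrix. -/
def upperGL (B : Matrix m l R) : GL (m ⊕ l) R :=
  ⟨fromBlocks 1 B 0 1, fromBlocks 1 (-B) 0 1,
    by simp [fromBlocks_multiply, fromBlocks_one],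
    by simp [fromBlocks_multiply, fromBlocks_one]⟩

/-- Lower unipotent block matrix. -/
def lowerGL (C : Matrix l m R) : GL (m ⊕ l) R :=
  ⟨fromBlocks 1 0 C 1, fromBlocks 1 0 (-C) 1,
    by simp [fromBlocks_multiply, fromBlocks_one],
    by simp [fromBlocks_multiply, fromBlocks_one]⟩

/-- Scalar on the first block. -/
def scal₁ (u : Rˣ) : GL (m ⊕ l) R :=
  ⟨fromBlocks ((u : R) • 1) 0 0 1, fromBlocks (((u⁻¹ : Rˣ) : R) • 1) 0 0 1,
    by simp [fromBlocks_multiply, fromBlocks_one, smul_smul],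
    by simp [fromBlocks_multiply, fromBlocks_one, smul_smul]⟩

/-- Scalar on the second block. -/
def scal₂ (u : Rˣ) : GL (m ⊕ l) R :=
  ⟨fromBlocks 1 0 0 ((u : R) • 1), fromBlocks 1 0 0 (((u⁻¹ : Rˣ) : R) • 1),
    by simp [fromBlocks_multiply, fromBlocks_one, smul_smul],
    by simp [fromBlocks_multiply, fromBlocks_one, smul_smul]⟩

lemma upperGL_val (B : Matrix m l R) : (upperGL B : GL (m ⊕ l) R).val = fromBlocks 1 B 0 1 := rfl
lemma lowerGL_val (C : Matrix l m R) : (lowerGL C : GL (m ⊕ l) R).val = fromBlocks 1 0 C 1 := rfl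

lemma commutator_scal₁_upper (u : Rˣ) (B : Matrix m l R) :
    ⁅(scal₁ u : GL (m ⊕ l) R), upperGL B⁆ = upperGL (((u : R) - 1) • B) := by
  rw [commutatorElement_def]
  apply Units.ext
  simp only [Units.val_mul]
  show fromBlocks ((u : R) • 1) 0 0 1 * fromBlocks 1 B 0 1 * fromBlocks (((u⁻¹ : Rˣ) : R) • 1) 0 0 1 *
    fromBlocks 1 (-B) 0 1 = fromBlocks 1 (((u : R) - 1) • B) 0 1
  simp only [fromBlocks_multiply]
  simp [smul_smul, sub_smul]
  abel

lemma commutator_scal₂_lower (u : Rˣ) (C : Matrix l m R) :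
    ⁅(scal₂ u : GL (m ⊕ l) R), lowerGL C⁆ = lowerGL (((u : R) - 1) • C) := by
  rw [commutatorElement_def]
  apply Units.ext
  simp only [Units.val_mul]
  show fromBlocks 1 0 0 ((u : R) • 1) * fromBlocks 1 0 C 1 * fromBlocks 1 0 0 (((u⁻¹ : Rˣ) : R) • 1) *
    fromBlocks 1 0 (-C) 1 = fromBlocks 1 0 (((u : R) - 1) • C) 1
  simp only [fromBlocks_multiply]
  simp [smul_smul, sub_smul]
  abel

lemma upperGL_mem_commutator (u : Rˣ) (hu : IsUnit ((u : R) - 1)) (B : Matrix m l R) :
    (upperGL B : GL (m ⊕ l) R) ∈ commutator (GL (m ⊕ l) R) := by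
  obtain ⟨w, hw⟩ := hu
  have : upperGL B = ⁅(scal₁ u : GL (m ⊕ l) R), upperGL (((w⁻¹ : Rˣ) : R) • B)⁆ := by
    rw [commutator_scal₁_upper, smul_smul, ← hw]
    simp
  rw [this]
  exact commutatorElement_mem _ _

lemma lowerGL_mem_commutator (u : Rˣ) (hu : IsUnit ((u : R) - 1)) (C : Matrix l m R) :
    (lowerGL C : GL (m ⊕ l) R) ∈ commutator (GL (m ⊕ l) R) := by
  obtain ⟨w, hw⟩ := hu
  have : lowerGL C = ⁅(scal₂ u : GL (m ⊕ l) R), lowerGL (((w⁻¹ : Rˣ) : R) • C)⁆ := by
    rw [commutator_scal₂_lower, smul_smul, ← hw]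
    simp
  rw [this]
  exact commutatorElement_mem _ _

/-- Block embedding `GL_m → GL_{m ⊕ l}`. -/
def emb₁ : GL m R →* GL (m ⊕ l) R where
  toFun g := ⟨fromBlocks (g : Matrix m m R) 0 0 1, fromBlocks ((g⁻¹ : GL m R) : Matrix m m R) 0 0 1,
    by simp [fromBlocks_multiply, fromBlocks_one],
    by simp [fromBlocks_multiply, fromBlocks_one]⟩
  map_one' := by apply Units.ext; simp [fromBlocks_one]
  map_mul' g h := by apply Units.ext; simp [fromBlocks_multiply]

lemma emb₁_val (g : GL m R) :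
    (emb₁ (l := l) g : GL (m ⊕ l) R).val = fromBlocks (g : Matrix m m R) 0 0 1 := rfl

lemma emb₁_diagGL (δ : m → Rˣ) :
    (emb₁ (l := l) (diagGL m R δ) : GL (m ⊕ l) R) = diagGL (m ⊕ l) R (Sum.elim δ 1) := by
  apply Units.ext
  rw [emb₁_val, diagGL_val, diagGL_val]
  ext (i | i) (j | j) <;> simp [diagonal_apply, Matrix.one_apply]

lemma emb₁_mem_Dsub {g : GL m R} (hg : g ∈ Dsub m R) : (emb₁ (l := l) g : GL (m ⊕ l) R) ∈ Dsub (m ⊕ l) R := by
  rw [mem_Dsub_iff] at hg ⊢
  obtain ⟨δ, hδ⟩ := hg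
  refine ⟨Sum.elim δ 1, ?_⟩
  rw [← emb₁_diagGL]
  have := congrArg (Abelianization.map (emb₁ (m := m) (l := l) (R := R))) hδ
  simpa using this

variable {S : Type*} [CommRing S]

lemma map_emb₁ (φ : R →+* S) (g : GL m R) :
    Matrix.GeneralLinearGroup.map φ (emb₁ (l := l) g) = emb₁ (Matrix.GeneralLinearGroup.map φ g) := by
  apply Units.ext
  ext (i | i) (j | j) <;> simp [emb₁_val, Matrix.one_apply]

end blocks

end Groth.Agent.Lib.Helper18.SLComm
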