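import Groth.Agent.Lib.Helper18.SLComm.Basic

/-!
# Gaussian elimination modulo commutators, étale locally (helper18)
-/

open Matrix
open scoped commutatorElement

namespace Groth.Agent.Lib.Helper18.SLComm

universe u

section ldu

variable {m : Type*} [Fintype m] [DecidableEq m] {R : Type*} [CommRing R]

/-- The diagonal matrix `diag(1,…,1,d)`. -/
noncomputable def diagLast (d : Rˣ) : GL (m ⊕ Unit) R := diagGL (m ⊕ Unit) R (Sum.elim 1 (fun _ => d))

lemma diagLast_val (d : Rˣ) :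
    (diagLast (m := m) d).val = fromBlocks (1 : Matrix m m R) 0 0 ((d : R) • (1 : Matrix Unit Unit R)) := by
  rw [diagLast, diagGL_val]
  ext (i | i) (j | j) <;> simp [diagonal_apply, Matrix.one_apply]

lemma toBlocks₂₂_unit (M : Matrix (m ⊕ Unit) (m ⊕ Unit) R) :
    M.toBlocks₂₂ = (M (Sum.inr ()) (Sum.inr ())) • (1 : Matrix Unit Unit R) := by
  ext i j
  simp [toBlocks₂₂]

lemma ldu (g : GL (m ⊕ Unit) R) (d : Rˣ) (hd : g.val (Sum.inr ()) (Sum.inr ()) = d) :
    ∃ (B : Matrix m Unit R) (C : Matrix Unit m R) (M' : GL m R),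
      g = upperGL B * (emb₁ M' * diagLast d) * lowerGL C := by
  set A₀ := g.val.toBlocks₁₁ with hA
  set B₀ := g.val.toBlocks₁₂ with hB
  set C₀ := g.val.toBlocks₂₁ with hC
  have hD : g.val.toBlocks₂₂ = (d : R) • (1 : Matrix Unit Unit R) := by
    rw [toBlocks₂₂_unit, hd]
  have hg : g.val = fromBlocks A₀ B₀ C₀ ((d : R) • (1 : Matrix Unit Unit R)) := by
    rw [← hD]; exact (fromBlocks_toBlocks g.val).symm
  set Mm : Matrix m m R := A₀ - ((d⁻¹ : Rˣ) : R) • (B₀ * C₀) with hMm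
  have hdec : g.val = fromBlocks 1 (((d⁻¹ : Rˣ) : R) • B₀) 0 1 *
      (fromBlocks Mm 0 0 1 * fromBlocks 1 0 0 ((d : R) • (1 : Matrix Unit Unit R))) *
      fromBlocks 1 0 (((d⁻¹ : Rˣ) : R) • C₀) 1 := by
    rw [hg]
    simp only [fromBlocks_multiply]
    simp [smul_smul, hMm]
  -- `Mm` is invertible
  have hdet : IsUnit Mm.det := by
    have h1 : IsUnit g.val.det := by
      have := g.isUnit
      exact (Matrix.isUnit_iff_isUnit_det _).mp this
    rw [hdec, det_mul, det_mul, det_mul] at h1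
    have h2 : (fromBlocks (1 : Matrix m m R) (((d⁻¹ : Rˣ) : R) • B₀) 0 (1 : Matrix Unit Unit R)).det = 1 := by
      rw [det_fromBlocks_zero₂₁]; simp
    have h3 : (fromBlocks (1 : Matrix m m R) 0 (((d⁻¹ : Rˣ) : R) • C₀) (1 : Matrix Unit Unit R)).det = 1 := by
      rw [det_fromBlocks_zero₁₂]; simp
    have h4 : (fromBlocks Mm 0 0 (1 : Matrix Unit Unit R)).det = Mm.det := by
      rw [det_fromBlocks_zero₂₁]; simp
    rw [h2, h3, h4, one_mul, mul_one] at h1
    exact isUnit_of_mul_isUnit_left h1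
  let M' : GL m R := ((Matrix.isUnit_iff_isUnit_det _).mpr hdet).unit
  have hM' : M'.val = Mm := IsUnit.unit_spec _
  refine ⟨((d⁻¹ : Rˣ) : R) • B₀, ((d⁻¹ : Rˣ) : R) • C₀, M', ?_⟩
  apply Units.ext
  rw [Units.val_mul, Units.val_mul, Units.val_mul, upperGL_val, lowerGL_val, emb₁_val, diagLast_val, hM']
  exact hdec

end ldu

section pivot

variable {m : Type*} [Fintype m] [DecidableEq m] {R : Type*} [CommRing R]

lemma lower_mul_entry (C : Matrix Unit m R) (g : GL (m ⊕ Unit) R) :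
    (lowerGL C * g).val (Sum.inr ()) (Sum.inr ()) =
      ∑ i, C () i * g.val (Sum.inl i) (Sum.inr ()) + g.val (Sum.inr ()) (Sum.inr ()) := by
  rw [Units.val_mul, lowerGL_val, Matrix.mul_apply, Fintype.sum_sum_type]
  simp [fromBlocks_apply₂₁, fromBlocks_apply₂₂, Matrix.one_apply]

lemma det_mem_of_col (p : Ideal R) (M : Matrix (m ⊕ Unit) (m ⊕ Unit) R)
    (h : ∀ i, M i (Sum.inr ()) ∈ p) : M.det ∈ p := by
  rw [← Ideal.Quotient.eq_zero_iff_mem, RingHom.map_det]
  apply Matrix.det_eq_zero_of_column_eq_zero (Sum.inr ())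
  intro i
  simp only [RingHom.mapMatrix_apply, Matrix.map_apply]
  exact Ideal.Quotient.eq_zero_iff_mem.mpr (h i)

lemma exists_pivot (g : GL (m ⊕ Unit) R) (p : Ideal R) [p.IsPrime] :
    ∃ C : Matrix Unit m R, (lowerGL C * g).val (Sum.inr ()) (Sum.inr ()) ∉ p := by
  by_cases h0 : g.val (Sum.inr ()) (Sum.inr ()) ∈ p
  · have hex : ∃ i : m, g.val (Sum.inl i) (Sum.inr ()) ∉ p := by
      by_contra hcon
      push_neg at hcon
      have hall : ∀ i, g.val i (Sum.inr ()) ∈ p := by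
        rintro (i | i)
        · exact hcon i
        · exact h0
      have hdet := det_mem_of_col p g.val hall
      have hu : IsUnit g.val.det := (Matrix.isUnit_iff_isUnit_det _).mp g.isUnit
      exact (Ideal.IsPrime.ne_top ‹_›) (Ideal.eq_top_of_isUnit_mem _ hdet hu)
    obtain ⟨i, hi⟩ := hex
    refine ⟨fun _ j => if j = i then 1 else 0, ?_⟩
    rw [lower_mul_entry]
    have : ∑ j, (if j = i then (1 : R) else 0) * g.val (Sum.inl j) (Sum.inr ()) =
        g.val (Sum.inl i) (Sum.inr ()) := by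
      simp
    rw [this]
    intro hmem
    exact hi (by simpa using p.sub_mem hmem h0)
  · refine ⟨0, ?_⟩
    rw [lower_mul_entry]
    simpa using h0

end pivot

section reindex

variable {m n : Type*} [Fintype m] [DecidableEq m] [Fintype n] [DecidableEq n]
variable {R : Type*} [CommRing R]

/-- Reindexing isomorphism of general linear groups. -/
noncomputable def reindexGL (e : m ≃ n) : GL m R ≃* GL n R :=
  Units.mapEquiv (Matrix.reindexAlgEquiv R R e).toMulEquiv

lemma reindexGL_val (e : m ≃ n) (g : GL m R) :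
    (reindexGL e g).val = g.val.submatrix e.symm e.symm := rfl

lemma reindexGL_diagGL (e : m ≃ n) (δ : m → Rˣ) :
    reindexGL e (diagGL m R δ) = diagGL n R (δ ∘ e.symm) := by
  apply Units.ext
  rw [reindexGL_val, diagGL_val, diagGL_val, submatrix_diagonal_equiv]
  rfl

lemma reindexGL_mem_Dsub (e : m ≃ n) {g : GL m R} (hg : g ∈ Dsub m R) :
    reindexGL e g ∈ Dsub n R := by
  rw [mem_Dsub_iff] at hg ⊢
  obtain ⟨δ, hδ⟩ := hg
  refine ⟨δ ∘ e.symm, ?_⟩
  rw [← reindexGL_diagGL]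
  have := congrArg (Abelianization.map (reindexGL (R := R) e).toMonoidHom) hδ
  simpa using this

variable {S : Type*} [CommRing S]

lemma map_reindexGL (φ : R →+* S) (e : m ≃ n) (g : GL m R) :
    Matrix.GeneralLinearGroup.map φ (reindexGL e g) = reindexGL e (Matrix.GeneralLinearGroup.map φ g) := by
  apply Units.ext
  ext i j
  simp [reindexGL_val]

end reindex

section goal

/-- The inductive statement: every invertible matrix becomes diagonal modulo commutators
étale-locally around a prime. -/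
def Goal (n : Type) [Fintype n] [DecidableEq n] : Prop :=
  ∀ (A : Type u) [CommRing A] (u : Aˣ), IsUnit ((u : A) - 1) → ∀ (p : Ideal A) [p.IsPrime] (g : GL n A),
    ∃ (B : Type u) (_ : CommRing B) (φ : A →+* B), φ.Etale ∧ (∃ q : Ideal B, q.IsPrime ∧ q.comap φ = p) ∧
      Matrix.GeneralLinearGroup.map φ g ∈ Dsub n B

lemma goal_of_equiv {m n : Type} [Fintype m] [DecidableEq m] [Fintype n] [DecidableEq n] (e : m ≃ n)
    (h : Goal.{u} m) : Goal.{u} n := by
  intro A _ u hu p _ g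
  obtain ⟨B, _, φ, hφ, hq, hmem⟩ := h A u hu p ((reindexGL e).symm g)
  refine ⟨B, inferInstance, φ, hφ, hq, ?_⟩
  have := reindexGL_mem_Dsub e hmem
  rwa [← map_reindexGL, MulEquiv.apply_symm_apply] at this

lemma goal_of_isEmpty {n : Type} [Fintype n] [DecidableEq n] [IsEmpty n] : Goal.{u} n := by
  intro A _ u hu p _ g
  refine ⟨A, inferInstance, RingHom.id A, RingHom.Etale.of_bijective Function.bijective_id,
    ⟨p, inferInstance, Ideal.comap_id p⟩, ?_⟩
  have : g = 1 := Subsingleton.elim _ _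
  rw [this, map_one]
  exact Subgroup.one_mem _

lemma goal_step {m : Type} [Fintype m] [DecidableEq m] (h : Goal.{u} m) : Goal.{u} (m ⊕ Unit) := by
  intro A _ u hu p _ g
  obtain ⟨C, hC⟩ := exists_pivot g p
  set d : A := (lowerGL C * g).val (Sum.inr ()) (Sum.inr ()) with hd
  let A₁ := Localization.Away d
  let φ₁ : A →+* A₁ := algebraMap A A₁
  have hφ₁ : φ₁.Etale := by
    rw [RingHom.etale_algebraMap]
    exact Algebra.Etale.of_isLocalizationAway d
  have hdisj : Disjoint (Submonoid.powers d : Set A) (p : Set A) :=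
    (Ideal.disjoint_powers_iff_notMem d (Ideal.IsPrime.isRadical ‹_›)).mpr hC
  let p₁ : Ideal A₁ := Ideal.map φ₁ p
  haveI hp₁ : p₁.IsPrime := IsLocalization.isPrime_of_isPrime_disjoint (Submonoid.powers d) A₁ p ‹_› hdisj
  have hp₁c : p₁.comap φ₁ = p := IsLocalization.under_map_of_isPrime_disjoint (Submonoid.powers d) A₁ ‹_› hdisj
  -- the pivot is a unit
  have hdu : IsUnit (φ₁ d) := IsLocalization.Away.algebraMap_isUnit d
  set g₁ : GL (m ⊕ Unit) A₁ := Matrix.GeneralLinearGroup.map φ₁ (lowerGL C * g) with hg₁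
  have hentry : g₁.val (Sum.inr ()) (Sum.inr ()) = (hdu.unit : A₁ˣ) := by
    rw [IsUnit.unit_spec]; rfl
  obtain ⟨B', C', M', hdec⟩ := ldu g₁ hdu.unit hentry
  let u₁ : A₁ˣ := Units.map φ₁.toMonoidHom u
  have hu₁ : IsUnit ((u₁ : A₁) - 1) := by
    have : ((u₁ : A₁) - 1) = φ₁ ((u : A) - 1) := by simp [u₁]
    rw [this]; exact hu.map φ₁
  obtain ⟨B, _, φ₂, hφ₂, ⟨q, hq, hqc⟩, hmem⟩ := h A₁ u₁ hu₁ p₁ M'
  refine ⟨B, inferInstance, φ₂.comp φ₁, RingHom.Etale.stableUnderComposition _ _ hφ₁ hφ₂,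
    ⟨q, hq, by rw [← Ideal.comap_comap, hqc, hp₁c]⟩, ?_⟩
  -- membership
  have hgeq : g = (lowerGL C)⁻¹ * (lowerGL C * g) := by group
  have h1 : Matrix.GeneralLinearGroup.map (φ₂.comp φ₁) g =
      (Matrix.GeneralLinearGroup.map (φ₂.comp φ₁) (lowerGL C))⁻¹ * Matrix.GeneralLinearGroup.map φ₂ g₁ := by
    conv_lhs => rw [hgeq]
    rw [map_mul, map_inv]
    rfl
  rw [h1]
  have hlowA : (lowerGL C : GL (m ⊕ Unit) A) ∈ Dsub (m ⊕ Unit) A :=
    commutator_le_Dsub (lowerGL_mem_commutator u hu C)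
  refine Subgroup.mul_mem _ (Subgroup.inv_mem _ (map_mem_Dsub _ hlowA)) ?_
  rw [hdec, map_mul, map_mul, map_mul]
  refine Subgroup.mul_mem _ (Subgroup.mul_mem _ ?_ (Subgroup.mul_mem _ ?_ ?_)) ?_
  · exact map_mem_Dsub _ (commutator_le_Dsub (upperGL_mem_commutator u₁ hu₁ B'))
  · rw [map_emb₁]
    exact emb₁_mem_Dsub hmem
  · exact map_mem_Dsub _ (diagGL_mem_Dsub _)
  · exact map_mem_Dsub _ (commutator_le_Dsub (lowerGL_mem_commutator u₁ hu₁ C'))

lemma goal_fin : ∀ r : ℕ, Goal.{u} (Fin r)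
  | 0 => goal_of_isEmpty
  | r + 1 => by
    have e : Fin r ⊕ Unit ≃ Fin (r + 1) := Fintype.equivOfCardEq (by simp)
    exact goal_of_equiv e (goal_step (goal_fin r))

end goal

end Groth.Agent.Lib.Helper18.SLComm
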