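import Groth.Agent.Lib.Helper18.SLComm.Elim

/-!
# `SL_n` lies in the commutator subgroup of `GL_n` étale-locally (helper18)
-/

open Matrix Polynomial
open scoped commutatorElement

namespace Groth.Agent.Lib.Helper18.SLComm

universe u

section diag

variable {n : Type*} [Fintype n] [DecidableEq n] {R : Type*} [CommRing R]

/-- The swap matrix as an element of `GL_n`. -/
noncomputable def swapGL (i j : n) : GL n R :=
  ⟨(Equiv.swap i j).permMatrix R, (Equiv.swap i j).permMatrix R,
    by rw [← Matrix.permMatrix_mul, Equiv.swap_mul_self, Matrix.permMatrix_one],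
    by rw [← Matrix.permMatrix_mul, Equiv.swap_mul_self, Matrix.permMatrix_one]⟩

lemma swapGL_conj (i j : n) (δ : n → Rˣ) :
    swapGL i j * diagGL n R δ * (swapGL i j)⁻¹ = diagGL n R (δ ∘ Equiv.swap i j) := by
  apply Units.ext
  have hinv : ((swapGL i j : GL n R)⁻¹).val = (Equiv.swap i j).permMatrix R := rfl
  rw [Units.val_mul, Units.val_mul, hinv, diagGL_val, diagGL_val]
  show (Equiv.swap i j).permMatrix R * _ * (Equiv.swap i j).permMatrix R = _
  rw [PEquiv.toMatrix_toPEquiv_mul, PEquiv.mul_toMatrix_toPEquiv, Matrix.submatrix_submatrix,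
    Equiv.symm_swap]
  have := submatrix_diagonal_equiv (fun k => ((δ k : Rˣ) : R)) (Equiv.swap i j)
  simpa using this

lemma ab_diag_swap (i j : n) (x : Rˣ) :
    (Abelianization.of (diagGL n R (Pi.mulSingle i x)) : Abelianization (GL n R)) =
      Abelianization.of (diagGL n R (Pi.mulSingle j x)) := by
  have h1 : (Pi.mulSingle j x : n → Rˣ) = (Pi.mulSingle i x) ∘ Equiv.swap i j := by
    funext k
    simp only [Function.comp_apply, Pi.mulSingle_apply]
    by_cases hk : k = j
    · subst hk; simp
    · have h2 : ¬ (Equiv.swap i j k = i) := by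
        intro h
        apply hk
        have := congrArg (Equiv.swap i j) h
        simpa using this
      simp [hk, h2]
  rw [h1, ← swapGL_conj, map_mul, map_mul, map_inv, mul_comm, inv_mul_cancel_left]

lemma ab_diag_eq (i₀ : n) (δ : n → Rˣ) :
    (Abelianization.of (diagGL n R δ) : Abelianization (GL n R)) =
      Abelianization.of (diagGL n R (Pi.mulSingle i₀ (∏ i, δ i))) := by
  let Ψ : (n → Rˣ) →* Abelianization (GL n R) := (Abelianization.of).comp (diagGL n R)
  show Ψ δ = Ψ (Pi.mulSingle i₀ (∏ i, δ i))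
  conv_lhs => rw [← Finset.univ_prod_mulSingle δ]
  rw [map_prod]
  have h1 : ∀ i, Ψ (Pi.mulSingle i (δ i)) = Ψ (Pi.mulSingle i₀ (δ i)) := fun i => ab_diag_swap i i₀ (δ i)
  simp_rw [h1]
  rw [← map_prod]
  congr 1
  exact (map_prod (MonoidHom.mulSingle (fun _ : n => Rˣ) i₀) δ Finset.univ).symm

lemma det_diagGL (δ : n → Rˣ) : Matrix.GeneralLinearGroup.det (diagGL n R δ) = ∏ i, δ i := by
  apply Units.ext
  rw [Matrix.GeneralLinearGroup.val_det_apply, diagGL_val, det_diagonal, Units.coe_prod]

lemma mem_commutator_of_mem_Dsub {g : GL n R} (hg : g ∈ Dsub n R)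
    (hdet : Matrix.GeneralLinearGroup.det g = 1) : g ∈ commutator (GL n R) := by
  rw [mem_Dsub_iff] at hg
  obtain ⟨δ, hδ⟩ := hg
  have hprod : ∏ i, δ i = 1 := by
    have := congrArg (Abelianization.lift (Matrix.GeneralLinearGroup.det (n := n) (R := R))) hδ
    rw [Abelianization.lift_apply_of, Abelianization.lift_apply_of, det_diagGL, hdet] at this
    exact this
  rw [← Abelianization.ker_of, MonoidHom.mem_ker, ← hδ]
  rcases isEmpty_or_nonempty n with hn | ⟨⟨i₀⟩⟩
  · have : diagGL n R δ = 1 := Subsingleton.elim _ _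
    rw [this, map_one]
  · rw [ab_diag_eq i₀, hprod, Pi.mulSingle_one, map_one, map_one]

end diag

section quad

variable (A : Type u) [CommRing A]

/-- The standard étale pair `(X² - X + c, 1 - 4c)`. -/
noncomputable def quadPair (c : A) : StandardEtalePair A where
  f := X ^ 2 - X + C c
  monic_f := by
    have : (X ^ 2 - X + C c : A[X]) = X ^ 2 + (C c - X) := by ring
    rw [this]
    nontriviality A
    apply Polynomial.monic_X_pow_add
    refine lt_of_le_of_lt (Polynomial.degree_sub_le _ _) ?_
    rw [max_lt_iff]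
    constructor
    · exact lt_of_le_of_lt Polynomial.degree_C_le (by norm_num)
    · rw [Polynomial.degree_X]; norm_num
  g := C (1 - 4 * c)
  cond := by
    refine ⟨derivative (X ^ 2 - X + C c), C (-4), 1, ?_⟩
    simp only [derivative_add, derivative_sub, derivative_X_pow, derivative_X, derivative_C, pow_one,
      map_sub, map_one, map_mul, map_neg]
    have h4 : (C (4 : A) : A[X]) = 4 := rfl
    have h2 : (C ((2 : ℕ) : A) : A[X]) = 2 := rfl
    rw [h4, h2]
    ring

variable {A}

lemma exists_etale_unit (p : Ideal A) [p.IsPrime] :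
    ∃ (B : Type u) (_ : CommRing B) (φ : A →+* B), φ.Etale ∧ (∃ q : Ideal B, q.IsPrime ∧ q.comap φ = p) ∧
      ∃ u : Bˣ, IsUnit ((u : B) - 1) := by
  -- choose `c = ± 1` with `1 - 4c ∉ p`
  have hc : ∃ c : A, (c = 1 ∨ c = -1) ∧ (1 - 4 * c) ∉ p := by
    by_cases h3 : (1 - 4 * (1 : A)) ∈ p
    · refine ⟨-1, Or.inr rfl, ?_⟩
      intro h5
      have h2 : (2 : A) ∈ p := by
        have := p.add_mem h3 h5
        have e : (1 - 4 * (1 : A)) + (1 - 4 * (-1 : A)) = 2 := by ring
        rwa [e] at this
      have h1 : (1 : A) ∈ p := by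
        have := p.add_mem h3 (p.mul_mem_left 2 h2)
        have e : (1 - 4 * (1 : A)) + 2 * 2 = 1 := by ring
        rwa [e] at this
      exact (Ideal.IsPrime.ne_top ‹_›) ((Ideal.eq_top_iff_one _).mpr h1)
    · exact ⟨1, Or.inl rfl, h3⟩
  obtain ⟨c, hc1, hcp⟩ := hc
  let P := quadPair A c
  let kbar := AlgebraicClosure p.ResidueField
  -- a root of `f` in the algebraic closure
  have hmon : (P.f.map (algebraMap A kbar)).Monic := P.monic_f.map _
  haveI : Nontrivial A := (algebraMap A kbar).domain_nontrivial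
  have hdeg : (P.f.map (algebraMap A kbar)).degree ≠ 0 := by
    have hnd : P.f.natDegree = 2 := by
      show (X ^ 2 - X + C c : A[X]).natDegree = 2
      have : (X ^ 2 - X + C c : A[X]) = X ^ 2 + (C c - X) := by ring
      rw [this]
      rw [Polynomial.natDegree_add_eq_left_of_degree_lt]
      · simp
      · rw [Polynomial.degree_X_pow]
        refine lt_of_le_of_lt (Polynomial.degree_sub_le _ _) ?_
        rw [max_lt_iff]
        constructor
        · exact lt_of_le_of_lt Polynomial.degree_C_le (by norm_num)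
        · rw [Polynomial.degree_X]; norm_num
    rw [P.monic_f.degree_map, Polynomial.degree_eq_natDegree P.monic_f.ne_zero, hnd]
    norm_num
  obtain ⟨y, hy⟩ := IsAlgClosed.exists_root _ hdeg
  have hy' : aeval y P.f = 0 := by
    rw [Polynomial.aeval_def, Polynomial.eval₂_eq_eval_map]; exact hy
  have hgy : IsUnit (aeval y P.g) := by
    show IsUnit (aeval y (C (1 - 4 * c) : A[X]))
    rw [Polynomial.aeval_C, isUnit_iff_ne_zero]
    rw [IsScalarTower.algebraMap_apply A p.ResidueField kbar]
    intro h0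
    have := (map_eq_zero_iff _ (algebraMap p.ResidueField kbar).injective).mp h0
    rw [Ideal.algebraMap_residueField_eq_zero] at this
    exact hcp this
  let ψ : P.Ring →ₐ[A] kbar := P.lift y ⟨hy', hgy⟩
  refine ⟨P.Ring, inferInstance, algebraMap A P.Ring, RingHom.etale_algebraMap.mpr inferInstance,
    ⟨RingHom.ker ψ.toRingHom, RingHom.ker_isPrime _, ?_⟩, ?_⟩
  · rw [RingHom.comap_ker]
    have : ψ.toRingHom.comp (algebraMap A P.Ring) = algebraMap A kbar := ψ.comp_algebraMap
    rw [this]
    ext a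
    rw [RingHom.mem_ker, IsScalarTower.algebraMap_apply A p.ResidueField kbar,
      map_eq_zero_iff _ (algebraMap p.ResidueField kbar).injective, Ideal.algebraMap_residueField_eq_zero]
  · -- the unit
    have hX : aeval P.X P.f = 0 := P.hasMap_X.1
    have hrel : P.X * (P.X - 1) = - algebraMap A P.Ring c := by
      have : aeval P.X (X ^ 2 - X + C c : A[X]) = 0 := hX
      simp only [map_add, map_sub, map_pow, aeval_X, aeval_C] at this
      linear_combination this
    have hcc : algebraMap A P.Ring c * algebraMap A P.Ring c = 1 := by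
      rcases hc1 with rfl | rfl <;> simp
    have hu1 : P.X * ((P.X - 1) * (- algebraMap A P.Ring c)) = 1 := by
      rw [← mul_assoc, hrel]; linear_combination hcc
    have hu2 : (P.X - 1) * (P.X * (- algebraMap A P.Ring c)) = 1 := by
      linear_combination hu1
    refine ⟨Units.mkOfMulEqOne _ _ hu1, ?_⟩
    show IsUnit (P.X - 1)
    exact IsUnit.of_mul_eq_one _ hu2

end quad

section final

theorem main (A : Type u) [CommRing A] (n : ℕ)
    (s : Matrix.SpecialLinearGroup (Fin n) A) (p : PrimeSpectrum A) :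
    ∃ (A' : Type u) (_ : CommRing A') (_ : Algebra A A'), Algebra.Etale A A' ∧
      (∃ q : PrimeSpectrum A', q.asIdeal.comap (algebraMap A A') = p.asIdeal) ∧
      (Matrix.GeneralLinearGroup.map (algebraMap A A')) (Matrix.SpecialLinearGroup.toGL s) ∈
        commutator (Matrix.GeneralLinearGroup (Fin n) A') := by
  obtain ⟨B₀, _, φ₀, hφ₀, ⟨q₀, hq₀, hq₀c⟩, u, hu⟩ := exists_etale_unit p.asIdeal
  obtain ⟨B, _, φ, hφ, ⟨q, hq, hqc⟩, hmem⟩ := goal_fin.{u} n B₀ u hu q₀
    (Matrix.GeneralLinearGroup.map φ₀ (Matrix.SpecialLinearGroup.toGL s))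
  letI : Algebra A B := (φ.comp φ₀).toAlgebra
  have halg : algebraMap A B = φ.comp φ₀ := rfl
  refine ⟨B, inferInstance, inferInstance, ?_, ⟨⟨q, hq⟩, ?_⟩, ?_⟩
  · rw [← RingHom.etale_algebraMap, halg]
    exact RingHom.Etale.stableUnderComposition _ _ hφ₀ hφ
  · rw [halg, ← Ideal.comap_comap, hqc, hq₀c]
  · rw [halg, Matrix.GeneralLinearGroup.map_comp, MonoidHom.comp_apply]
    apply mem_commutator_of_mem_Dsub hmem
    apply Units.ext
    simp [Matrix.GeneralLinearGroup.val_det_apply]
    have h1 : ((s : Matrix (Fin n) (Fin n) A).map (⇑φ ∘ ⇑φ₀)) = (φ.comp φ₀).mapMatrix (s : Matrix (Fin n) (Fin n) A) := rfl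
    rw [h1, ← RingHom.map_det, s.det_coe, map_one]

end final

end Groth.Agent.Lib.Helper18.SLComm
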